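import Mathlib
import Groth.Prelude

set_option autoImplicit false
set_option linter.style.haveILetI false

universe u

open MvPolynomial

namespace Groth.Agent.H8.RegBC

variable {R R' : Type u} [CommRing R] [CommRing R'] [Algebra R R'] [Module.Flat R R']

/-- flat base change of quasi-regular sequences. -/
theorem isQuasiRegular_map_of_flat {c : ℕ} (f : Fin c → R) (hf : CAlgX.IsQuasiRegular f) :
    CAlgX.IsQuasiRegular (fun i => algebraMap R R' (f i)) := by
  classical
  intro n P' hP' hev d
  set J : Ideal R := Ideal.span (Set.range f) with hJ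
  have hJ' : Ideal.span (Set.range fun i => algebraMap R R' (f i)) = J.map (algebraMap R R') := by
    rw [hJ, Ideal.map_span, ← Set.range_comp]
    rfl
  rw [hJ'] at hev ⊢
  by_cases hd : d ∈ P'.support
  swap
  · rw [MvPolynomial.notMem_support_iff.mp hd]
    exact zero_mem _
  -- the monomials in `f`
  let mon : (Fin c →₀ ℕ) → R := fun e => e.prod fun i k => f i ^ k
  have hmon : ∀ e : Fin c →₀ ℕ, (e.prod fun i k => (algebraMap R R' (f i)) ^ k) =
      algebraMap R R' (mon e) := by
    intro e
    simp only [mon, Finsupp.prod, map_prod, map_pow]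
  -- write the value as a combination of elements of `J ^ (n+1)`
  have hx : eval (fun i => algebraMap R R' (f i)) P' ∈
      (J ^ (n + 1)) • Submodule.span R (Set.range (id : R' → R')) := by
    rw [Set.range_id, Submodule.span_univ]
    have := Ideal.smul_top_eq_map (R := R) (S := R') (J ^ (n + 1))
    rw [this]
    rw [Ideal.map_pow]
    exact hev
  obtain ⟨a, ha, hsum⟩ := (Submodule.mem_ideal_smul_span_iff_exists_sum (J ^ (n + 1)) id _).mp hx
  -- the relation
  let ι := {e : Fin c →₀ ℕ // e ∈ P'.support} ⊕ {r : R' // r ∈ a.support}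
  let F : ι → R := Sum.elim (fun e => mon e.1) (fun r => - a r.1)
  let X : ι → R' := Sum.elim (fun e => coeff e.1 P') (fun r => r.1)
  have hrel : ∑ i : ι, F i • X i = 0 := by
    rw [Fintype.sum_sum_type]
    simp only [F, X, Sum.elim_inl, Sum.elim_inr, neg_smul, Finset.sum_neg_distrib]
    have h1 : ∑ e : {e : Fin c →₀ ℕ // e ∈ P'.support}, mon e.1 • coeff e.1 P' =
        eval (fun i => algebraMap R R' (f i)) P' := by
      rw [MvPolynomial.eval_eq, ← Finset.sum_coe_sort P'.support]
      apply Finset.sum_congr rfl
      intro e _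
      have := hmon e.1
      simp only [Finsupp.prod] at this
      rw [this, Algebra.smul_def, mul_comm]
    have h2 : ∑ r : {r : R' // r ∈ a.support}, a r.1 • (r.1 : R') =
        eval (fun i => algebraMap R R' (f i)) P' := by
      rw [← hsum, Finsupp.sum, ← Finset.sum_coe_sort a.support]
      rfl
    rw [h1, h2, add_neg_cancel]
  obtain ⟨k, b, y, hy, hb⟩ := Module.Flat.isTrivialRelation_of_sum_smul_eq_zero (R := R)
    (M := R') (f := F) (x := X) hrel
  -- the coefficients `b (inl e) j` lie in `J`
  have hbJ : ∀ (j : Fin k) (e : {e : Fin c →₀ ℕ // e ∈ P'.support}), b (Sum.inl e) j ∈ J := by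
    intro j e
    let Pj : MvPolynomial (Fin c) R :=
      ∑ e' : {e : Fin c →₀ ℕ // e ∈ P'.support}, monomial e'.1 (b (Sum.inl e') j)
    have hPj : Pj.IsHomogeneous n := by
      apply MvPolynomial.IsHomogeneous.sum
      intro e' _
      apply MvPolynomial.isHomogeneous_monomial
      rw [Finsupp.degree_eq_weight_one]
      exact hP' (MvPolynomial.mem_support_iff.mp e'.2)
    have hevj : eval f Pj ∈ J ^ (n + 1) := by
      have h1 : eval f Pj = ∑ e' : {e : Fin c →₀ ℕ // e ∈ P'.support},
          mon e'.1 * b (Sum.inl e') j := by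
        simp only [Pj, map_sum, eval_monomial, mon]
        apply Finset.sum_congr rfl
        intro e' _
        rw [mul_comm]
      have h2 := hb j
      rw [Fintype.sum_sum_type] at h2
      simp only [F, Sum.elim_inl, Sum.elim_inr, neg_mul, Finset.sum_neg_distrib] at h2
      rw [h1, eq_neg_of_add_eq_zero_left h2, neg_neg]
      apply Ideal.sum_mem
      intro r _
      exact Ideal.mul_mem_right _ _ (ha r.1)
    have h3 := hf n Pj hPj hevj e.1
    have h4 : coeff e.1 Pj = b (Sum.inl e) j := by
      simp only [Pj, coeff_sum, coeff_monomial]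
      rw [Finset.sum_eq_single e]
      · simp
      · intro e' _ hne
        rw [if_neg]
        intro h
        exact hne (Subtype.ext h)
      · intro h
        exact absurd (Finset.mem_univ e) h
    rwa [h4] at h3
  have hcoeff : coeff d P' = ∑ j, b (Sum.inl ⟨d, hd⟩) j • y j := hy (Sum.inl ⟨d, hd⟩)
  rw [hcoeff]
  apply Ideal.sum_mem
  intro j _
  rw [Algebra.smul_def]
  exact Ideal.mul_mem_right _ _ (Ideal.mem_map_of_mem _ (hbJ j ⟨d, hd⟩))

end Groth.Agent.H8.RegBC
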