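import Mathlib
import Groth.Prelude

set_option autoImplicit false
set_option linter.style.haveILetI false

universe u

namespace Groth.Agent.H8.RegBC

variable {R R' : Type u} [CommRing R] [CommRing R'] [Algebra R R'] [Module.Flat R R']

/-- flat base change of `H_1`-regular sequences. -/
theorem isH1Regular_map_of_flat {c : ℕ} (f : Fin c → R) (hf : CAlgX.IsH1Regular f) :
    CAlgX.IsH1Regular (fun i => algebraMap R R' (f i)) := by
  classical
  intro a' ha'
  have hrel : ∑ i, f i • a' i = 0 := by
    rw [← ha']
    apply Finset.sum_congr rfl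
    intro i _
    rw [Algebra.smul_def, mul_comm]
  obtain ⟨k, b, y, hy, hb⟩ := Module.Flat.isTrivialRelation_of_sum_smul_eq_zero (R := R)
    (M := R') (f := f) (x := a') hrel
  set T : Set (Fin c → R) :=
    {v | ∃ i j : Fin c, v = Pi.single i (f j) - Pi.single j (f i)} with hT
  set T' : Set (Fin c → R') :=
    {v | ∃ i j : Fin c, v = Pi.single i (algebraMap R R' (f j)) -
      Pi.single j (algebraMap R R' (f i))} with hT'
  let Φ : (Fin c → R) →ₗ[R] (Fin c → R') := (Algebra.linearMap R R').compLeft (Fin c)
  have hΦ : ∀ v ∈ Submodule.span R T, Φ v ∈ Submodule.span R' T' := by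
    intro v hv
    induction hv using Submodule.span_induction with
    | mem v hv =>
      obtain ⟨i, j, rfl⟩ := hv
      apply Submodule.subset_span
      refine ⟨i, j, ?_⟩
      ext l
      simp only [Φ, LinearMap.compLeft_apply, Function.comp_apply, Pi.sub_apply,
        Algebra.linearMap_apply, map_sub]
      simp only [Pi.single_apply, apply_ite (algebraMap R R'), map_zero]
    | zero => simp
    | add v w _ _ hv hw => rw [map_add]; exact Submodule.add_mem _ hv hw
    | smul r v _ hv =>
      rw [map_smul, ← algebraMap_smul R' r (Φ v)]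
      exact Submodule.smul_mem _ _ hv
  have hbj : ∀ j : Fin k, (fun i => b i j) ∈ Submodule.span R T := by
    intro j
    apply hf
    rw [← hb j]
    apply Finset.sum_congr rfl
    intro i _
    rw [mul_comm]
  have ha'eq : a' = ∑ j, y j • Φ (fun i => b i j) := by
    ext i
    rw [hy i, Finset.sum_apply]
    apply Finset.sum_congr rfl
    intro j _
    simp only [Φ, Pi.smul_apply, LinearMap.compLeft_apply, Function.comp_apply,
      Algebra.linearMap_apply, smul_eq_mul]
    rw [Algebra.smul_def, mul_comm]
  rw [ha'eq]
  exact Submodule.sum_mem _ fun j _ => Submodule.smul_mem _ _ (hΦ _ (hbj j))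

end Groth.Agent.H8.RegBC
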