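import Mathlib
import Groth.Prelude
import Groth.Agent.H4.KosBC
import Groth.Agent.Lib.Helper8.KosBCImm.BC
import Groth.Agent.Lib.Helper8.RegBC.H1
import Groth.Agent.Lib.Helper8.RegBC.QR

set_option autoImplicit false
set_option linter.style.haveILetI false

universe u

open CategoryTheory CategoryTheory.Limits AlgebraicGeometry

attribute [local instance] HasDerivedCategory.standard

namespace Groth.Agent.H8.RegBC

section ring

variable {R R' : Type u} [CommRing R] [CommRing R'] [Algebra R R'] [Module.Flat R R']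

theorem isH1Regular_of_cast {c c' : ℕ} (e : c' = c) (g : Fin c → R') (g' : Fin c' → R')
    (h : ∀ i, g' i = g (Fin.cast e i)) (hg : CAlgX.IsH1Regular g) : CAlgX.IsH1Regular g' := by
  subst e
  have : g' = g := funext h
  rw [this]
  exact hg

theorem isQuasiRegular_of_cast {c c' : ℕ} (e : c' = c) (g : Fin c → R') (g' : Fin c' → R')
    (h : ∀ i, g' i = g (Fin.cast e i)) (hg : CAlgX.IsQuasiRegular g) :
    CAlgX.IsQuasiRegular g' := by
  subst e
  have : g' = g := funext h
  rw [this]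
  exact hg

/-- flat base change for the four kinds of sequences. -/
theorem kindSeq_map_of_flat (k : RegImm.Kind) (rs : List R) (h : k.Seq R rs)
    (hne : Ideal.ofList (rs.map (algebraMap R R')) ≠ ⊤) :
    k.Seq R' (rs.map (algebraMap R R')) := by
  cases k with
  | regular =>
    have h' : RingTheory.Sequence.IsRegular R rs := h
    refine ⟨h'.toIsWeaklyRegular.of_flat, fun htop => hne ?_⟩
    rw [smul_eq_mul, Ideal.mul_top] at htop
    exact htop.symm
  | koszul => exact Groth.Agent.H4.KosBC.isKoszulRegularSeq_map rs h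
  | h1 =>
    have h' : CAlgX.IsH1Regular rs.get := h
    exact isH1Regular_of_cast (List.length_map _) _ _ (fun i => by simp)
      (isH1Regular_map_of_flat (R' := R') rs.get h')
  | quasi =>
    have h' : CAlgX.IsQuasiRegular rs.get := h
    exact isQuasiRegular_of_cast (List.length_map _) _ _ (fun i => by simp)
      (isQuasiRegular_map_of_flat (R' := R') rs.get h')

end ring

section main

open Groth.Agent.H8.KosBCImm

variable {X Y X' Y' : Scheme.{u}}

/-- base change of a chart of kind `k` along a flat morphism. -/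
theorem exists_chart_baseChange (k : RegImm.Kind) (i : Y ⟶ X) (g : X' ⟶ X) [Flat g]
    (i' : Y' ⟶ X') (g' : Y' ⟶ Y)
    (hsq : IsPullback g' i' i g) (z' : Y') (U : X.Opens) (hU : IsAffineOpen U)
    (hzU : i (g' z') ∈ U) (hcl : IsClosedImmersion (i ∣_ U))
    (rs : List Γ(X, U)) (hrs : k.Seq Γ(X, U) rs)
    (hker : RingHom.ker (i.app U).hom = Ideal.ofList rs) :
    ∃ U' : X'.Opens, IsAffineOpen U' ∧ i' z' ∈ U' ∧ IsClosedImmersion (i' ∣_ U') ∧
      ∃ rs' : List Γ(X', U'), rs'.length = rs.length ∧ k.Seq Γ(X', U') rs' ∧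
        RingHom.ker (i'.app U').hom = Ideal.ofList rs' := by
  have hz' : i' z' ∈ g ⁻¹ᵁ U := by
    have h2 : i (g' z') = g (i' z') := by
      have := congrArg (fun φ : Y' ⟶ X => φ z') hsq.w
      simpa using this
    change g (i' z') ∈ U
    rw [← h2]
    exact hzU
  obtain ⟨U', hU', hzU', hle⟩ :=
    (TopologicalSpace.Opens.isBasis_iff_nbhd.mp X'.isBasis_affineOpens) hz'
  obtain ⟨hcl', hker'⟩ := chart_baseChange i g i' g' hsq U hU hcl U' hU' hle
  have hker'' : RingHom.ker (i'.app U').hom =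
      Ideal.ofList (rs.map (g.appLE U U' hle).hom) := by
    rw [hker', hker, Ideal.map_ofList]
  refine ⟨U', hU', hzU', hcl', rs.map (g.appLE U U' hle).hom, List.length_map _, ?_, hker''⟩
  letI : Algebra Γ(X, U) Γ(X', U') := (g.appLE U U' hle).hom.toAlgebra
  haveI : Module.Flat Γ(X, U) Γ(X', U') :=
    HasRingHomProperty.appLE (P := @Flat) g inferInstance ⟨U, hU⟩ ⟨U', hU'⟩ hle
  refine kindSeq_map_of_flat k rs hrs ?_
  change Ideal.ofList (rs.map (g.appLE U U' hle).hom) ≠ ⊤
  rw [← hker'']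
  haveI : Nonempty (i' ⁻¹ᵁ U' : Y'.Opens) := ⟨⟨z', hzU'⟩⟩
  haveI : Nontrivial Γ(Y', i' ⁻¹ᵁ U') := Scheme.component_nontrivial Y' (i' ⁻¹ᵁ U')
  exact RingHom.ker_ne_top _

/-- **flat base change of regular immersions of any kind** -/
theorem regularImmersion_baseChange_flat (k : RegImm.Kind) (i : Y ⟶ X) (g : X' ⟶ X) [Flat g]
    (i' : Y' ⟶ X') (g' : Y' ⟶ Y) (hsq : IsPullback g' i' i g)
    (hi : RegImm.IsRegularImmersion k i) : RegImm.IsRegularImmersion k i' := by
  obtain ⟨himm, hi⟩ := hi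
  refine ⟨MorphismProperty.of_isPullback hsq himm, fun z' => ?_⟩
  obtain ⟨U, hzU, hcl, rs, hrs, hker⟩ := hi (g' z')
  obtain ⟨U', hU', hzU', hcl', rs', -, hrs', hker'⟩ :=
    exists_chart_baseChange k i g i' g' hsq z' U.1 U.2 hzU hcl rs hrs hker
  exact ⟨⟨U', hU'⟩, hzU', hcl', rs', hrs', hker'⟩

/-- codimension version. -/
theorem regularImmersionOfCodim_baseChange_flat (k : RegImm.Kind) (d : ℕ) (i : Y ⟶ X)
    (g : X' ⟶ X) [Flat g]
    (i' : Y' ⟶ X') (g' : Y' ⟶ Y) (hsq : IsPullback g' i' i g)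
    (hi : RegImm.IsRegularImmersionOfCodim k d i) : RegImm.IsRegularImmersionOfCodim k d i' := by
  obtain ⟨himm, hi⟩ := hi
  refine ⟨MorphismProperty.of_isPullback hsq himm, fun z' => ?_⟩
  obtain ⟨U, hzU, hcl, rs, hlen, hrs, hker⟩ := hi (g' z')
  obtain ⟨U', hU', hzU', hcl', rs', hlen', hrs', hker'⟩ :=
    exists_chart_baseChange k i g i' g' hsq z' U.1 U.2 hzU hcl rs hrs hker
  exact ⟨⟨U', hU'⟩, hzU', hcl', rs', hlen'.trans hlen, hrs', hker'⟩

end main

end Groth.Agent.H8.RegBC
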